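import Mathlib

/-!
# Preliminaries on affine lines and open immersions of affine schemes
-/

set_option autoImplicit false
set_option backward.isDefEq.respectTransparency.types false
set_option linter.style.haveILetI false

universe u

open CategoryTheory CategoryTheory.Limits AlgebraicGeometry TopologicalSpace

noncomputable section

namespace Groth.Agent.CohDer1.GITBundle

/-- A morphism from an affine scheme which is bijective on functions over an affine open containing
the image is an isomorphism onto this open. -/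
theorem isOpenImmersion_of_appLE_bijective {Y Z : Scheme.{u}} [IsAffine Y] (f : Y ⟶ Z) {O : Z.Opens}
    (hO : IsAffineOpen O) (e : ⊤ ≤ f ⁻¹ᵁ O) (hb : Function.Bijective (f.appLE O ⊤ e)) :
    IsOpenImmersion f ∧ Set.range f = (O : Set Z) := by
  have h := hO.SpecMap_appLE_fromSpec f (isAffineOpen_top Y) e
  rw [IsAffineOpen.fromSpec_top] at h
  haveI : IsIso (f.appLE O ⊤ e) := (ConcreteCategory.isIso_iff_bijective _).2 hb
  have hf : f = Y.isoSpec.hom ≫ Spec.map (f.appLE O ⊤ e) ≫ hO.fromSpec := by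
    rw [h, Iso.hom_inv_id_assoc]
  constructor
  · rw [hf]; infer_instance
  · rw [hf, Scheme.Hom.comp_base, TopCat.coe_comp, Set.range_comp, Set.range_eq_univ.2 Y.isoSpec.hom.surjective,
      Set.image_univ, Scheme.Hom.comp_base, TopCat.coe_comp, Set.range_comp,
      Set.range_eq_univ.2 (Spec.map (f.appLE O ⊤ e)).surjective, Set.image_univ, hO.range_fromSpec]

/-- A morphism with a retraction is surjective on functions. -/
theorem appTop_surjective_of_retraction {Y Z : Scheme.{u}} (g : Y ⟶ Z) (r : Z ⟶ Y) (h : g ≫ r = 𝟙 Y) :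
    Function.Surjective g.appTop := fun s => ⟨r.appTop s, by
  rw [← CommRingCat.comp_apply, ← Scheme.Hom.comp_appTop, h]; rfl⟩

/-- The affine line over an affine scheme has the polynomial ring as functions. -/
theorem bijective_eval_coord (W : Scheme.{u}) [IsAffine W] :
    Function.Bijective (Polynomial.eval₂RingHom (𝔸(PUnit.{u + 1}; W) ↘ W).appTop.hom
      (AffineSpace.coord W PUnit.unit)) := by
  have h1 : Function.Bijective (MvPolynomial.eval₂Hom (𝔸(PUnit.{u + 1}; W) ↘ W).appTop.hom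
      (AffineSpace.coord W)) := by
    have h2 : Function.Bijective (AffineSpace.isoOfIsAffine PUnit.{u + 1} W).hom.appTop :=
      haveI : IsIso (AffineSpace.isoOfIsAffine PUnit.{u + 1} W).hom.appTop :=
        inferInstanceAs (IsIso ((AffineSpace.isoOfIsAffine PUnit.{u + 1} W).hom.app ⊤))
      ConcreteCategory.bijective_of_isIso _
    rw [AffineSpace.isoOfIsAffine_hom_appTop] at h2
    refine (Function.Bijective.of_comp_iff _ (ConcreteCategory.bijective_of_isIso
      (Scheme.ΓSpecIso (CommRingCat.of (MvPolynomial PUnit.{u + 1} Γ(W, ⊤)))).hom)).1 ?_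
    exact h2
  have h3 : Polynomial.eval₂RingHom (𝔸(PUnit.{u + 1}; W) ↘ W).appTop.hom (AffineSpace.coord W PUnit.unit) =
      (MvPolynomial.eval₂Hom (𝔸(PUnit.{u + 1}; W) ↘ W).appTop.hom (AffineSpace.coord W)).comp
        (MvPolynomial.pUnitAlgEquiv.{u, u} Γ(W, ⊤)).symm.toAlgHom.toRingHom :=
    Polynomial.ringHom_ext (fun r => by simp [MvPolynomial.pUnitAlgEquiv]) (by simp [MvPolynomial.pUnitAlgEquiv])
  rw [h3]
  exact h1.comp (MvPolynomial.pUnitAlgEquiv.{u, u} Γ(W, ⊤)).symm.bijective

/-- Restricting along an open subscheme inclusion is injective on sections over that open. -/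
theorem injective_app_opens_ι {X : Scheme.{u}} (O : X.Opens) : Function.Injective (O.ι.app O) := by
  haveI : IsIso (O.ι.app O) := O.ι.isIso_app O (by simp)
  exact (ConcreteCategory.bijective_of_isIso _).1

/-- A morphism followed by an open immersion onto `O` is surjective on functions over `O` if it is so globally. -/
theorem appLE_surjective_comp {L B A : Scheme.{u}} (g : L ⟶ B) (M : B ⟶ A) [IsOpenImmersion M] {O : A.Opens}
    (hO : M.opensRange = O) (hg : Function.Surjective g.appTop) (e : ⊤ ≤ (g ≫ M) ⁻¹ᵁ O) :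
    Function.Surjective ((g ≫ M).appLE O ⊤ e) := by
  have he : ⊤ ≤ M ⁻¹ᵁ O := by rw [← hO]; exact fun x _ => ⟨x, rfl⟩
  haveI : IsIso (M.app O) := M.isIso_app _ hO.ge
  haveI : IsIso (M.appLE O ⊤ he) := by
    rw [Scheme.Hom.appLE]
    have : M ⁻¹ᵁ O = ⊤ := top_le_iff.1 he
    rw [show homOfLE he = eqToHom this.symm from Subsingleton.elim _ _]
    infer_instance
  have h : (g ≫ M).appLE O ⊤ e = M.appLE O ⊤ he ≫ g.appLE ⊤ ⊤ le_top :=
    (Scheme.Hom.appLE_comp_appLE g M O ⊤ ⊤ he le_top).symm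
  rw [h]
  have hg' : Function.Surjective (g.appLE ⊤ ⊤ le_top) := by
    rw [show g.appLE ⊤ ⊤ le_top = g.appTop from by simp [Scheme.Hom.appLE, Scheme.Hom.appTop]]
    exact hg
  exact hg'.comp (ConcreteCategory.bijective_of_isIso (M.appLE O ⊤ he)).2

/-- Lifting one member of a family of morphisms to the intersection of their schematic images. -/
theorem lift_iInf_spec {J : Type u} [Finite J] {L : J → Scheme.{u}} {A : Scheme.{u}} (p : ∀ j, L j ⟶ A)
    [∀ j, QuasiCompact (p j)] (i : J) [IsAffine (L i)] (O : A.Opens) (hO : IsAffineOpen O)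
    (e : ⊤ ≤ p i ⁻¹ᵁ O) (hkill : ∀ j s, (p i).app O s = 0 → (p j).app O s = 0)
    (hsurj : Function.Surjective ((p i).appLE O ⊤ e))
    (k : L i ⟶ (⨅ j, (p j).ker).subscheme) (hk : k ≫ (⨅ j, (p j).ker).subschemeι = p i) :
    IsOpenImmersion k ∧ Set.range k = ((⨅ j, (p j).ker).subschemeι ⁻¹ᵁ O : Set _) := by
  generalize hZ : (⨅ j, (p j).ker) = Z at k hk ⊢
  have e' : ⊤ ≤ (k ≫ Z.subschemeι) ⁻¹ᵁ O := by rw [hk]; exact e
  have hcomp : (p i).appLE O ⊤ e = Z.subschemeι.app O ≫ k.appLE (Z.subschemeι ⁻¹ᵁ O) ⊤ e' := by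
    rw [← Scheme.Hom.comp_appLE]
    simp only [hk]
  refine isOpenImmersion_of_appLE_bijective k (hO.preimage Z.subschemeι) e' ⟨?_, ?_⟩
  · rw [injective_iff_map_eq_zero]
    intro s hs
    obtain ⟨t, ht⟩ := Z.subschemeι_app_surjective ⟨O, hO⟩ s
    subst ht
    have h1 : (p i).appLE O ⊤ e t = 0 := by rw [hcomp, CommRingCat.comp_apply]; exact hs
    have h0 : (p i).app O t = 0 := by
      rw [Scheme.Hom.appLE, CommRingCat.comp_apply] at h1
      have e2 : p i ⁻¹ᵁ O = ⊤ := top_le_iff.1 e
      haveI : IsIso ((L i).presheaf.map (homOfLE e).op) := by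
        rw [show homOfLE e = eqToHom e2.symm from Subsingleton.elim _ _]
        infer_instance
      exact (ConcreteCategory.bijective_of_isIso _).1 (h1.trans (map_zero _).symm)
    have hmem : t ∈ Z.ideal ⟨O, hO⟩ := by
      rw [← hZ, Scheme.IdealSheafData.ideal_iInf, iInf_apply]
      simp only [Submodule.mem_iInf]
      intro j
      rw [Scheme.Hom.ker_apply]
      exact hkill j t h0
    rw [← Scheme.IdealSheafData.ker_subschemeι_app] at hmem
    exact hmem
  · intro s
    obtain ⟨t, rfl⟩ := hsurj s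
    exact ⟨Z.subschemeι.app O t, by rw [hcomp, CommRingCat.comp_apply]⟩

theorem app_eq_zero_of_comp_eq {L L' A : Scheme.{u}} (p : L ⟶ A) (p' : L' ⟶ A) (Q : L'.Opens) {O : A.Opens}
    (hQ : p' ⁻¹ᵁ O = Q) (q : (Q : Scheme.{u}) ⟶ L) (h : Q.ι ≫ p' = q ≫ p) {s : Γ(A, O)} (hs : p.app O s = 0) :
    p'.app O s = 0 := by
  subst hQ
  have h1 : (p.app O ≫ q.app (p ⁻¹ᵁ O)) s = 0 := by rw [CommRingCat.comp_apply, hs, map_zero]
  have h2 : ((p' ⁻¹ᵁ O).ι ≫ p').app O s = 0 := by
    rw [Scheme.Hom.congr_app h, CommRingCat.comp_apply]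
    erw [h1]
    exact map_zero _
  exact injective_app_opens_ι (p' ⁻¹ᵁ O) (h2.trans (map_zero _).symm)

end Groth.Agent.CohDer1.GITBundle
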