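import Groth.Agent.CohDer1.GITBundle.Bundle
import Groth.Agent.AmpleLib.Ample

/-!
# Quotient data from an ample module on the quotient, closedness of orbits
-/

set_option autoImplicit false
set_option backward.isDefEq.respectTransparency.types false
set_option linter.style.haveILetI false

universe u

open CategoryTheory CategoryTheory.Limits MonoidalCategory CartesianMonoidalCategory MonObj AlgebraicGeometry
  TopologicalSpace
open Groth.Agent.AmpleLib Groth.Agent.PicLib Groth.Agent.Coherent

noncomputable section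

namespace Groth.Agent.CohDer1.GITBundle

/-- An ample module gives quotient data. -/
theorem nonempty_quotData {Y : Scheme.{u}} {M : Y.Modules} (hM : CohB1.IsAmple M) : Nonempty (QuotData Y) := by
  classical
  obtain ⟨hinv, hc, h⟩ := isAmple_iff_affGlocus.1 hM
  choose m hm b hb _ ha using h
  obtain ⟨t, ht⟩ := isCompact_univ.elim_finite_subcover (fun x => (glocus _ (b x) : Set Y))
    (fun x => (glocus _ (b x)).2) fun x _ => Set.mem_iUnion.2 ⟨x, hb x⟩
  let N := ∏ x : t, m x.1
  have hN : 0 < N := Finset.prod_pos fun x _ => hm x.1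
  have hpow : ∀ x : t, ∃ c : Γ(CohB1.tensorPow M N, ⊤), glocus _ c = glocus _ (b x.1) := fun x => by
    obtain ⟨k, hk⟩ : m x.1 ∣ N := Finset.dvd_prod_of_mem (fun x : t => m x.1) (Finset.mem_univ x)
    have hk0 : 0 < k := Nat.pos_of_mul_pos_left (hk ▸ hN)
    have key : ∀ l, l = m x.1 * k → ∃ c : Γ(CohB1.tensorPow M l, ⊤), glocus _ c = glocus _ (b x.1) := by
      rintro _ rfl; exact exists_glocus_pow hinv (m x.1) (b x.1) k hk0
    exact key N hk
  choose s hs using hpow
  let P := CohB1.tensorPow M N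
  have hg := fun i : t => isGen_glocus (L := P) (s i)
  refine ⟨{ I := t
            U := fun i => glocus P (s i)
            affine := fun i => (hs i).symm ▸ ha i.1
            cover := fun y => ?_
            u := fun j i => (hg i).coef le_rfl (resM P le_top (s j))
            u_self := fun i => ?_
            inter := fun j i => ?_
            cocycle := fun k j i => ?_ }⟩
  · obtain ⟨x, hx, hyx⟩ := Set.mem_iUnion₂.1 (ht (Set.mem_univ y))
    exact ⟨⟨x, hx⟩, (hs ⟨x, hx⟩).symm ▸ hyx⟩
  · refine (hg i).coef_eq _ ?_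
    rw [one_smul, resM_self]
  · rw [inf_comm, glocus_inf (s j) (hg i)]
  · have h1 : ∀ a b : t, ∀ (W : Y.Opens) (hW : W ≤ glocus P (s b)),
        Y.presheaf.map (homOfLE hW).op ((hg b).coef le_rfl (resM P le_top (s a))) • resM P (le_top : W ≤ ⊤) (s b) =
          resM P (le_top : W ≤ ⊤) (s a) := fun a b W hW => by
      have := congrArg (resM P hW) ((hg b).coef_spec le_rfl (resM P le_top (s a)))
      rw [resM_smul, resM_self, resM_resM, resM_resM] at this
      exact this
    refine (hg i _ inf_le_left).1 ?_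
    simp only [resM_resM]
    rw [h1 k i _ inf_le_left, mul_smul, h1 j i _ inf_le_left, h1 k j _ inf_le_right]

variable {S : Scheme.{u}} {G X Y : Over S}

/-- The data pulled back along an affine morphism. -/
def QuotData.pullback (D : QuotData Y.left) (φ : X ⟶ Y) [IsAffineHom φ.left] : QuotData X.left where
  I := D.I
  U i := φ.left ⁻¹ᵁ D.U i
  affine i := (D.affine i).preimage _
  cover x := D.cover (φ.left x)
  u j i := φ.left.app (D.U i) (D.u j i)
  u_self i := by rw [D.u_self, map_one]
  inter j i := by rw [← Scheme.preimage_basicOpen, ← D.inter, Scheme.Hom.preimage_inf]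
  cocycle k j i := by
    have h := congrArg (φ.left.app (D.U i ⊓ D.U j)) (D.cocycle k j i)
    rw [map_mul] at h
    simp only [← CommRingCat.comp_apply, φ.left.naturality] at h
    exact h

variable [GrpObj G] {a : AlgGrp.Action G X} {φ : X ⟶ Y}

theorem isInvariantData_pullback (D : QuotData Y.left) [IsAffineHom φ.left] (hφ : GIT.IsInvariant a φ) :
    (D.pullback φ).IsInvariantData a where
  preimage i := by
    show a.act.left ⁻¹ᵁ (φ.left ⁻¹ᵁ D.U i) = (snd G X).left ⁻¹ᵁ (φ.left ⁻¹ᵁ D.U i)
    rw [← Scheme.Hom.comp_preimage, ← Scheme.Hom.comp_preimage, hφ.left]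
  value i j Q h n₁ n₂ h₁ h₂ := by
    let O := φ.left ⁻¹ᵁ D.U i
    have hle : ∀ n : Q ⟶ (O : Scheme.{u}), ⊤ ≤ (n ≫ O.ι) ⁻¹ᵁ O := fun n q _ => (n q).2
    have hv : ∀ n : Q ⟶ (O : Scheme.{u}), n.appTop (O.topIso.inv (φ.left.app (D.U i) (D.u j i))) =
        ((n ≫ O.ι) ≫ φ.left).appLE (D.U i) ⊤ (hle n) (D.u j i) := fun n => by
      rw [QuotData.appTop_topIso_inv O O n (n ≫ O.ι) rfl le_rfl (hle n)]
      refine Eq.trans ?_ (QuotData.appLE_app (n ≫ O.ι) φ.left (hle n) _)
      simp [O]
    refine (hv n₁).trans (Eq.trans ?_ (hv n₂).symm)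
    refine QuotData.appLE_congr_hom ?_ _ _ _
    show (n₁ ≫ ((D.pullback φ).U i).ι) ≫ φ.left = (n₂ ≫ ((D.pullback φ).U i).ι) ≫ φ.left
    rw [h₁, h₂, Category.assoc, Category.assoc, hφ.left]

/-- The orbits over an affine open of a geometric quotient are closed. -/
theorem closedOrbitsOn_preimage [IsAffine S] (hq : GIT.IsGeomQuot a φ) (W : Y.left.Opens) (hW : IsAffineOpen W) :
    GLinSh.ClosedOrbitsOn a (φ.left ⁻¹ᵁ W) := by
  intro Ω _ _ T eT f hf
  haveI : Subsingleton T.left :=
    @Function.Injective.subsingleton _ _ eT.hom (Scheme.homeoOfIso eT).injective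
      (inferInstanceAs (Subsingleton (PrimeSpectrum Ω)))
  haveI : Nonempty T.left := ⟨eT.inv (Classical.arbitrary (PrimeSpectrum Ω))⟩
  let t₀ : T.left := Classical.arbitrary _
  let s : T ⟶ Y ⊗ T := lift (f ≫ φ) (𝟙 T)
  let O : (Y ⊗ T).left.Opens := (fst Y T).left ⁻¹ᵁ W
  have hsO : Set.range s.left ⊆ Set.range O.ι := by
    rintro _ ⟨t, rfl⟩
    rw [Scheme.Opens.range_ι]
    show (fst Y T).left (s.left t) ∈ W
    rw [← Scheme.Hom.comp_apply, ← Over.comp_left, lift_fst, Over.comp_left, Scheme.Hom.comp_apply]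
    exact hf ⟨t, rfl⟩
  -- the section is closed over `W`
  let s' := IsOpenImmersion.lift O.ι s.left hsO
  haveI : IsAffine (W : Scheme.{u}) := hW
  haveI : IsSeparated (W.ι ≫ Y.hom) := inferInstance
  haveI : IsSeparated (O.ι ≫ (snd Y T).left) := by
    have h1 : IsPullback O.ι ((fst Y T).left ∣_ W) (fst Y T).left W.ι :=
      (isPullback_morphismRestrict (fst Y T).left W).flip
    have h2 : IsPullback (snd Y T).left (fst Y T).left T.hom Y.hom := (IsPullback.of_hasPullback Y.hom T.hom).flip
    exact MorphismProperty.of_isPullback (h1.paste_horiz h2).flip ‹IsSeparated (W.ι ≫ Y.hom)›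
  haveI : IsClosedImmersion s' := by
    haveI : IsClosedImmersion (s' ≫ O.ι ≫ (snd Y T).left) := by
      rw [← Category.assoc, IsOpenImmersion.lift_fac, ← Over.comp_left, lift_snd, Over.id_left]
      infer_instance
    exact IsClosedImmersion.of_comp s' (O.ι ≫ (snd Y T).left)
  let φT : X ⊗ T ⟶ Y ⊗ T := φ ▷ T
  -- the map to `O`
  have hfst : φT.left ≫ (fst Y T).left = (fst X T).left ≫ φ.left :=
    congrArg CommaMorphism.left (whiskerRight_fst φ T)
  have hmem : ∀ p : (X ⊗ T).left, p ∈ (fst X T).left ⁻¹ᵁ (φ.left ⁻¹ᵁ W) → φT.left p ∈ O := fun p hp => by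
    show (fst Y T).left (φT.left p) ∈ W
    rw [← Scheme.Hom.comp_apply, hfst, Scheme.Hom.comp_apply]
    exact hp
  let g : ↥((fst X T).left ⁻¹ᵁ (φ.left ⁻¹ᵁ W)) → (O : Scheme.{u}) := fun p => ⟨φT.left p.1, hmem p.1 p.2⟩
  have hg : Continuous g := (φT.left.continuous.comp continuous_subtype_val).subtype_mk _
  suffices h : (fun p : (fst X T).left ⁻¹ᵁ (φ.left ⁻¹ᵁ W) => (p : (X ⊗ T).left)) ⁻¹'
      Set.range (GIT.psi a f).left.base = g ⁻¹' Set.range s' by
    exact h ▸ s'.isClosedEmbedding.isClosed_range.preimage hg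
  have hψ : GIT.psi a f ≫ φT = snd G T ≫ s := by
    ext1
    · rw [Category.assoc, Category.assoc, whiskerRight_fst, lift_fst, ← Category.assoc, GIT.psi, lift_fst,
        Category.assoc, hq.inv, ← Category.assoc, whiskerLeft_snd, Category.assoc]
    · rw [Category.assoc, Category.assoc, whiskerRight_snd, lift_snd, GIT.psi, lift_snd, Category.comp_id]
  ext ⟨p, hp⟩
  constructor
  · rintro ⟨q, hq'⟩
    refine ⟨(snd G T).left q, O.ι.isOpenEmbedding.injective ?_⟩
    rw [← Scheme.Hom.comp_apply, IsOpenImmersion.lift_fac]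
    show s.left ((snd G T).left q) = φT.left p
    rw [← Scheme.Hom.comp_apply, ← Over.comp_left, ← hψ, Over.comp_left, Scheme.Hom.comp_apply]
    exact congrArg _ hq'
  · rintro ⟨t, ht⟩
    have ht' : φT.left p = s.left t := by
      rw [← IsOpenImmersion.lift_fac O.ι s.left hsO, Scheme.Hom.comp_apply]
      exact (congrArg O.ι ht).symm
    -- a point of the fibre product over the section
    obtain ⟨z, hz, -⟩ := Scheme.Pullback.exists_preimage_pullback (f := φT.left) (g := s.left) p t ht'
    let P : Over S := Over.mk (pullback.fst φT.left s.left ≫ (X ⊗ T).hom)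
    let π₁ : P ⟶ X ⊗ T := Over.homMk (pullback.fst φT.left s.left) rfl
    have hsec : π₁ ≫ φT = (π₁ ≫ snd X T) ≫ s := by
      let π₂ : P ⟶ T := Over.homMk (pullback.snd φT.left s.left) (by
        show _ ≫ T.hom = pullback.fst φT.left s.left ≫ (X ⊗ T).hom
        rw [← Over.w φT, pullback.condition_assoc, Over.w s])
      have h1 : π₁ ≫ φT = π₂ ≫ s := Over.OverMorphism.ext pullback.condition
      have h2 : π₁ ≫ snd X T = π₂ := by
        have := congrArg (· ≫ snd Y T) h1
        simp only [Category.assoc] at this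
        rwa [whiskerRight_snd, lift_snd, Category.comp_id] at this
      rw [h2, h1]
    have hagree : (π₁ ≫ fst X T).left ≫ φ.left = (π₁ ≫ snd X T ≫ f).left ≫ φ.left := by
      have := congrArg (· ≫ fst Y T) hsec
      simp only [Category.assoc] at this
      rw [whiskerRight_fst, lift_fst] at this
      simpa only [Over.comp_left, Category.assoc] using congrArg CommaMorphism.left this
    let h := pullback.lift (π₁ ≫ fst X T).left (π₁ ≫ snd X T ≫ f).left hagree
    obtain ⟨w₀, hw₀⟩ := hq.orbit (h z)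
    obtain ⟨w, -, hw⟩ := Scheme.Pullback.exists_preimage_pullback
      (f := GIT.PsiY a φ hq.inv) (g := h) w₀ z hw₀
    let Q : Over S := Over.mk (pullback.snd (GIT.PsiY a φ hq.inv) h ≫ P.hom)
    let q₁ : Q ⟶ P := Over.homMk (pullback.snd (GIT.PsiY a φ hq.inv) h) rfl
    have hc₂ : pullback.fst (GIT.PsiY a φ hq.inv) h ≫ (snd G X).left = (q₁ ≫ π₁ ≫ snd X T ≫ f).left := by
      have := congrArg (· ≫ pullback.snd φ.left φ.left) (pullback.condition (f := GIT.PsiY a φ hq.inv) (g := h))
      simp only [Category.assoc, GIT.PsiY, h, pullback.lift_snd] at this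
      exact this
    have hc₁ : pullback.fst (GIT.PsiY a φ hq.inv) h ≫ a.act.left = (q₁ ≫ π₁ ≫ fst X T).left := by
      have := congrArg (· ≫ pullback.fst φ.left φ.left) (pullback.condition (f := GIT.PsiY a φ hq.inv) (g := h))
      simp only [Category.assoc, GIT.PsiY, h, pullback.lift_fst] at this
      exact this
    let q₂ : Q ⟶ G ⊗ X := Over.homMk (pullback.fst (GIT.PsiY a φ hq.inv) h) (by
      show _ ≫ (G ⊗ X).hom = _
      rw [← Over.w (snd G X), ← Category.assoc, hc₂]
      exact Over.w (q₁ ≫ π₁ ≫ snd X T ≫ f))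
    have hd₂ : q₂ ≫ snd G X = q₁ ≫ π₁ ≫ snd X T ≫ f := Over.OverMorphism.ext hc₂
    have hd₁ : q₂ ≫ a.act = q₁ ≫ π₁ ≫ fst X T := Over.OverMorphism.ext hc₁
    let c : Q ⟶ G ⊗ T := lift (q₂ ≫ fst G X) (q₁ ≫ π₁ ≫ snd X T)
    have hc : c ≫ GIT.psi a f = q₁ ≫ π₁ := by
      ext1
      · rw [Category.assoc, GIT.psi, lift_fst, Category.assoc, ← hd₁, ← Category.assoc]
        congr 1
        ext1
        · rw [Category.assoc, whiskerLeft_fst, lift_fst]
        · rw [Category.assoc, whiskerLeft_snd, lift_snd_assoc, hd₂, Category.assoc, Category.assoc]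
      · rw [Category.assoc, GIT.psi, lift_snd, lift_snd, Category.assoc]
    refine ⟨c.left w, ?_⟩
    show (GIT.psi a f).left (c.left w) = p
    rw [← Scheme.Hom.comp_apply, ← Over.comp_left, hc, Over.comp_left, Scheme.Hom.comp_apply]
    show pullback.fst φT.left s.left (pullback.snd (GIT.PsiY a φ hq.inv) h w) = p
    rw [hw, hz]

end Groth.Agent.CohDer1.GITBundle
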