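import Groth.Agent.CohDer1.GITBundle.Tot
import Groth.Prelude.Def_GLinSh

/-!
# The linearised line bundle of invariant quotient data
-/

set_option autoImplicit false
set_option backward.isDefEq.respectTransparency.types false
set_option linter.style.haveILetI false

universe u

open CategoryTheory CategoryTheory.Limits MonoidalCategory CartesianMonoidalCategory MonObj AlgebraicGeometry
  TopologicalSpace

noncomputable section

namespace Groth.Agent.CohDer1.GITBundle

namespace QuotData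

section Basic

variable {X : Scheme.{u}} (D : QuotData X)

theorem appLE_congr_hom {Y Z : Scheme.{u}} {f g : Y ⟶ Z} (h : f = g) {O : Z.Opens} {P : Y.Opens}
    (e : P ≤ f ⁻¹ᵁ O) (e' : P ≤ g ⁻¹ᵁ O) (r : Γ(Z, O)) : f.appLE O P e r = g.appLE O P e' r := by
  subst h; rfl

theorem map_res_apply (Z : Scheme.{u}) {O P : Z.Opens} (h : P ≤ O) (h' : O ≤ ⊤) (f : Γ(Z, ⊤)) :
    Z.presheaf.map (homOfLE h).op (Z.presheaf.map (homOfLE h').op f) =
      Z.presheaf.map (homOfLE (le_top : P ≤ ⊤)).op f := by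
  rw [← CommRingCat.comp_apply, ← Functor.map_comp]
  rfl

theorem bijective_appLE {Y Z : Scheme.{u}} (k : Y ⟶ Z) [IsOpenImmersion k] {O : Z.Opens} (h : k.opensRange = O)
    (e : ⊤ ≤ k ⁻¹ᵁ O) : Function.Bijective (k.appLE O ⊤ e) := by
  haveI : IsIso (k.app O) := k.isIso_app _ h.ge
  have h' : k ⁻¹ᵁ O = ⊤ := top_le_iff.1 e
  rw [Scheme.Hom.appLE, show homOfLE e = eqToHom h'.symm from Subsingleton.elim _ _]
  exact ConcreteCategory.bijective_of_isIso _

theorem appLE_res {Y Z : Scheme.{u}} (k : Y ⟶ Z) {O : Z.Opens} {P : Y.Opens} (e : P ≤ k ⁻¹ᵁ O) (f : Γ(Z, ⊤)) :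
    k.appLE O P e (Z.presheaf.map (homOfLE (le_top : O ≤ ⊤)).op f) =
      Y.presheaf.map (homOfLE (le_top : P ≤ ⊤)).op (k.appTop f) := by
  rw [← CommRingCat.comp_apply, Scheme.Hom.map_appLE, Scheme.Hom.appLE, CommRingCat.comp_apply]
  rfl

theorem appLE_app {Y Z W : Scheme.{u}} (k : Y ⟶ Z) (g : Z ⟶ W) {O : W.Opens} {P : Y.Opens}
    (e : P ≤ k ⁻¹ᵁ (g ⁻¹ᵁ O)) (r : Γ(W, O)) : k.appLE (g ⁻¹ᵁ O) P e (g.app O r) = (k ≫ g).appLE O P e r := by
  rw [← CommRingCat.comp_apply, Scheme.Hom.comp_appLE]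

theorem z_rel (i j : D.I) :
    D.V.presheaf.map (homOfLE (le_top : D.π ⁻¹ᵁ D.U i ≤ ⊤)).op (D.z j) =
      D.π.app (D.U i) (D.u j i) * D.V.presheaf.map (homOfLE (le_top : D.π ⁻¹ᵁ D.U i ≤ ⊤)).op (D.z i) := by
  refine (bijective_appLE (D.k i) (D.opensRange_k i) (D.top_le_k_preimage i)).1 ?_
  have h1 : (D.k i).appLE (D.π ⁻¹ᵁ D.U i) ⊤ (D.top_le_k_preimage i) (D.π.app (D.U i) (D.u j i)) = D.uL j i := by
    rw [appLE_app]
    refine Eq.trans ?_ (appTop_topIso_inv (D.U i) (D.U i) (D.L i ↘ (D.U i : Scheme.{u})) (D.k i ≫ D.π)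
      (D.k_π i).symm le_rfl (D.top_le_k_preimage i) (D.u j i)).symm
    simp
  rw [map_mul, appLE_res, appLE_res, h1, k_z, k_z]
  simp [uL, D.u_self]

theorem z_rel_of_le (i j : D.I) (W : X.Opens) (hW : W ≤ D.U i) :
    D.V.presheaf.map (homOfLE (le_top : D.π ⁻¹ᵁ W ≤ ⊤)).op (D.z j) =
      D.π.app W (X.presheaf.map (homOfLE hW).op (D.u j i)) *
        D.V.presheaf.map (homOfLE (le_top : D.π ⁻¹ᵁ W ≤ ⊤)).op (D.z i) := by
  have h := congrArg (D.V.presheaf.map (homOfLE (D.π.preimage_mono hW)).op) (D.z_rel i j)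
  rw [map_mul] at h
  simp only [← CommRingCat.comp_apply, ← Functor.map_comp] at h
  rw [← CommRingCat.comp_apply (X.presheaf.map (homOfLE hW).op) (D.π.app W), D.π.naturality]
  exact h

theorem bijective_eval (i : D.I) (W : X.Opens) (hW : IsAffineOpen W) (hWi : W ≤ D.U i) :
    Function.Bijective (Polynomial.eval₂RingHom (D.π.app W).hom
      (D.V.presheaf.map (homOfLE (le_top : D.π ⁻¹ᵁ W ≤ ⊤)).op (D.z i))) := by
  haveI : IsAffine (W : Scheme.{u}) := hW
  let M := AffineSpace.map PUnit.{u + 1} (X.homOfLE hWi)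
  have hpb := AffineSpace.isPullback_map (n := PUnit.{u + 1}) (X.homOfLE hWi)
  haveI : IsOpenImmersion M := MorphismProperty.of_isPullback hpb.flip inferInstance
  let j := M ≫ D.k i
  have hjπ : (𝔸(PUnit.{u + 1}; (W : Scheme.{u})) ↘ (W : Scheme.{u})) ≫ W.ι = j ≫ D.π := by
    simp only [j, M, Category.assoc, k_π, AffineSpace.map_over_assoc, Scheme.homOfLE_ι]
  have hMr : Set.range M = (D.L i ↘ (D.U i : Scheme.{u})) ⁻¹' Set.range (X.homOfLE hWi) := by
    show Set.range (AffineSpace.map PUnit.{u + 1} (X.homOfLE hWi)) = _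
    rw [← hpb.isoPullback_hom_fst, Scheme.Hom.comp_base, TopCat.coe_comp, Set.range_comp,
      Set.range_eq_univ.2 hpb.isoPullback.hom.surjective, Set.image_univ, Scheme.Pullback.range_fst]
  have hjr : j.opensRange = D.π ⁻¹ᵁ W := by
    refine Opens.ext (Set.ext fun v => ⟨?_, fun hv => ?_⟩)
    · rintro ⟨a, rfl⟩
      show D.π (j a) ∈ W
      rw [← Scheme.Hom.comp_apply, ← hjπ, Scheme.Hom.comp_apply]
      exact ((𝔸(PUnit.{u + 1}; (W : Scheme.{u})) ↘ (W : Scheme.{u})) a).2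
    · have : v ∈ (D.k i).opensRange := by rw [opensRange_k]; exact hWi hv
      obtain ⟨b, rfl⟩ := this
      have hb : b ∈ Set.range M := by
        rw [hMr]
        refine ⟨⟨(D.U i).ι ((D.L i ↘ (D.U i : Scheme.{u})) b), ?_⟩, (D.U i).ι.isOpenEmbedding.injective ?_⟩
        · rw [← Scheme.Hom.comp_apply, ← k_π, Scheme.Hom.comp_apply]; exact hv
        · rw [← Scheme.Hom.comp_apply, Scheme.homOfLE_ι]; rfl
      obtain ⟨a, rfl⟩ := hb
      exact ⟨a, Scheme.Hom.comp_apply _ _ _⟩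
  have e : ⊤ ≤ j ⁻¹ᵁ (D.π ⁻¹ᵁ W) := by rw [← hjr]; exact fun a _ => ⟨a, rfl⟩
  have h0 : Function.Bijective ((Polynomial.eval₂RingHom
      (𝔸(PUnit.{u + 1}; (W : Scheme.{u})) ↘ (W : Scheme.{u})).appTop.hom (AffineSpace.coord _ PUnit.unit)).comp
      (Polynomial.mapRingHom W.topIso.inv.hom)) :=
    (bijective_eval_coord (W : Scheme.{u})).comp
      (Polynomial.mapEquiv W.topIso.symm.commRingCatIsoToRingEquiv).bijective
  refine (Function.Bijective.of_comp_iff' (bijective_appLE j hjr e) _).1 ?_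
  have key : (j.appLE (D.π ⁻¹ᵁ W) ⊤ e).hom.comp (Polynomial.eval₂RingHom (D.π.app W).hom
      (D.V.presheaf.map (homOfLE (le_top : D.π ⁻¹ᵁ W ≤ ⊤)).op (D.z i))) =
      (Polynomial.eval₂RingHom (𝔸(PUnit.{u + 1}; (W : Scheme.{u})) ↘ (W : Scheme.{u})).appTop.hom
        (AffineSpace.coord _ PUnit.unit)).comp (Polynomial.mapRingHom W.topIso.inv.hom) := by
    refine Polynomial.ringHom_ext (fun r => ?_) ?_
    · simp only [RingHom.comp_apply, Polynomial.coe_eval₂RingHom, Polynomial.eval₂_C, Polynomial.coe_mapRingHom,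
        Polynomial.map_C]
      rw [appTop_topIso_inv W W _ (j ≫ D.π) hjπ le_rfl e r]
      refine (appLE_app j D.π e r).trans ?_
      simp
    · simp only [RingHom.comp_apply, Polynomial.coe_eval₂RingHom, Polynomial.eval₂_X, Polynomial.coe_mapRingHom,
        Polynomial.map_X]
      refine (appLE_res j e (D.z i)).trans ?_
      rw [show (homOfLE (le_top : (⊤ : Opens 𝔸(PUnit.{u + 1}; (W : Scheme.{u}))) ≤ ⊤)).op = 𝟙 _ from rfl,
        CategoryTheory.Functor.map_id, CommRingCat.id_apply, Scheme.Hom.comp_appTop, CommRingCat.comp_apply, k_z,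
        uL, D.u_self, map_one, map_one, _root_.one_mul, T, AffineSpace.map_appTop_coord]
  rw [← RingHom.coe_comp, key]
  exact h0

theorem nonvanishing_z (j : D.I) : (D.π : D.V → X) '' (D.V.basicOpen (D.z j) : Set D.V) = (D.U j : Set X) := by
  refine Set.Subset.antisymm ?_ fun x hx => ?_
  · rintro _ ⟨v, hv, rfl⟩
    obtain ⟨i, hi⟩ := D.cover (D.π v)
    have h := D.V.basicOpen_res (D.z j) (homOfLE (le_top : D.π ⁻¹ᵁ D.U i ≤ ⊤)).op
    have hv' : v ∈ D.V.basicOpen (D.V.presheaf.map (homOfLE (le_top : D.π ⁻¹ᵁ D.U i ≤ ⊤)).op (D.z j)) := by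
      rw [h]; exact ⟨hi, hv⟩
    rw [z_rel, Scheme.basicOpen_mul] at hv'
    have hu := hv'.1
    rw [← Scheme.preimage_basicOpen, ← D.inter] at hu
    exact hu.2
  · let σ : (D.U j : Scheme.{u}) ⟶ D.L j := AffineSpace.homOfVector (𝟙 _) fun _ => 1
    have h1 : (σ ≫ D.k j).appTop (D.z j) = 1 := by
      rw [Scheme.Hom.comp_appTop, CommRingCat.comp_apply, k_z, map_mul, AffineSpace.homOfVector_appTop_coord,
        _root_.mul_one, uL, D.u_self, map_one, map_one, map_one]
    refine ⟨(σ ≫ D.k j) ⟨x, hx⟩, ?_, ?_⟩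
    · have : (⟨x, hx⟩ : (D.U j : Scheme.{u})) ∈ (σ ≫ D.k j) ⁻¹ᵁ D.V.basicOpen (D.z j) := by
        rw [Scheme.preimage_basicOpen_top, h1, Scheme.basicOpen_of_isUnit _ isUnit_one]
        trivial
      exact this
    · rw [← Scheme.Hom.comp_apply, Category.assoc, k_π, AffineSpace.homOfVector_over_assoc, Category.id_comp]
      rfl

/-- A morphism to the affine space satisfying the linear equations factors through the total space. -/
theorem exists_lift {T : Scheme.{u}} (f : T ⟶ D.A)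
    (h : ∀ (i j : D.I) (Q : Scheme.{u}) (b : Q ⟶ T) (l : Q ⟶ (D.U i : Scheme.{u})),
      l ≫ (D.U i).ι = b ≫ f ≫ D.A ↘ X → (b ≫ f).appTop (AffineSpace.coord X j) =
        l.appTop ((D.U i).topIso.inv (D.u j i)) * (b ≫ f).appTop (AffineSpace.coord X i)) :
    ∃ g : T ⟶ D.V, g ≫ D.ι' = f := by
  have hloc : ∀ i : D.I, ∃ g : ((f ⁻¹ᵁ D.O i : T.Opens) : Scheme.{u}) ⟶ D.V, g ≫ D.ι' = (f ⁻¹ᵁ D.O i).ι ≫ f := by
    intro i
    have hr : Set.range ((f ⁻¹ᵁ D.O i).ι ≫ f ≫ D.A ↘ X) ⊆ Set.range (D.U i).ι := by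
      rintro _ ⟨q, rfl⟩
      rw [Scheme.Opens.range_ι]
      exact q.2
    let l := IsOpenImmersion.lift (D.U i).ι _ hr
    refine ⟨AffineSpace.homOfVector l (fun _ => ((f ⁻¹ᵁ D.O i).ι ≫ f).appTop (AffineSpace.coord X i)) ≫ D.k i, ?_⟩
    rw [Category.assoc, k_ι']
    refine AffineSpace.hom_ext ?_ fun j => ?_
    · rw [Category.assoc, Category.assoc, piece_over, AffineSpace.homOfVector_over_assoc]
      exact IsOpenImmersion.lift_fac _ _ _
    · rw [Scheme.Hom.comp_appTop, CommRingCat.comp_apply, piece_coord, map_mul,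
        AffineSpace.homOfVector_appTop_coord, h i j _ _ l (IsOpenImmersion.lift_fac _ _ _), uL,
        ← CommRingCat.comp_apply, ← Scheme.Hom.comp_appTop, AffineSpace.homOfVector_over]
  choose g hg using hloc
  let 𝒰 : T.OpenCover := Scheme.openCoverOfIsOpenCover T (fun i => f ⁻¹ᵁ D.O i)
    (TopologicalSpace.IsOpenCover.mk (eq_top_iff.2 fun t _ => by
      obtain ⟨i, hi⟩ := D.cover ((D.A ↘ X) (f t))
      exact Opens.mem_iSup.2 ⟨i, hi⟩))
  refine ⟨𝒰.glueMorphisms g fun a b => ?_, 𝒰.hom_ext _ _ fun a => ?_⟩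
  · rw [← cancel_mono D.ι', Category.assoc, Category.assoc]
    erw [hg, hg]
    exact pullback.condition_assoc _
  · rw [𝒰.ι_glueMorphisms_assoc]
    exact hg a

end Basic

section Linearised

variable {S : Scheme.{u}} {G X : Over S} [GrpObj G] (a : AlgGrp.Action G X) (D : QuotData X.left)

/-- The quotient data are invariant. -/
structure IsInvariantData : Prop where
  preimage : ∀ i, a.act.left ⁻¹ᵁ D.U i = (snd G X).left ⁻¹ᵁ D.U i
  value : ∀ (i j : D.I) (Q : Scheme.{u}) (h : Q ⟶ (G ⊗ X).left) (n₁ n₂ : Q ⟶ (D.U i : Scheme.{u})),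
    n₁ ≫ (D.U i).ι = h ≫ a.act.left → n₂ ≫ (D.U i).ι = h ≫ (snd G X).left →
      n₁.appTop ((D.U i).topIso.inv (D.u j i)) = n₂.appTop ((D.U i).topIso.inv (D.u j i))

/-- The total space over the base. -/
def VO : Over S := Over.mk (D.π ≫ X.hom)

/-- The projection over the base. -/
def πO : D.VO ⟶ X := Over.homMk D.π rfl

/-- The action on the ambient affine space, restricted to the total space. -/
def act₀ : (G ⊗ D.VO).left ⟶ D.A :=
  AffineSpace.homOfVector ((G ◁ D.πO) ≫ a.act).left fun i => (snd G D.VO).left.appTop (D.z i)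

variable {a D}

theorem exists_act (hD : D.IsInvariantData a) : ∃ Φ : G ⊗ D.VO ⟶ D.VO, Φ.left ≫ D.ι' = D.act₀ a := by
  have hcond : ∀ (i j : D.I) (Q : Scheme.{u}) (b : Q ⟶ (G ⊗ D.VO).left) (l : Q ⟶ (D.U i : Scheme.{u})),
      l ≫ (D.U i).ι = b ≫ D.act₀ a ≫ D.A ↘ X.left → (b ≫ D.act₀ a).appTop (AffineSpace.coord X.left j) =
        l.appTop ((D.U i).topIso.inv (D.u j i)) * (b ≫ D.act₀ a).appTop (AffineSpace.coord X.left i) := by
    intro i j Q b l hl
    rw [act₀, AffineSpace.homOfVector_over, Over.comp_left, ← Category.assoc] at hl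
    have h2 : Set.range (b ≫ (snd G D.VO).left) ⊆ Set.range (D.k i) := by
      rintro _ ⟨q, rfl⟩
      refine (D.range_k i).ge ?_
      show D.π _ ∈ D.U i
      have h3 : (b ≫ (G ◁ D.πO).left) q ∈ a.act.left ⁻¹ᵁ D.U i := by
        show a.act.left _ ∈ D.U i
        rw [← Scheme.Hom.comp_apply, ← hl, Scheme.Hom.comp_apply]
        exact (l q).2
      rw [hD.preimage] at h3
      show ((snd G D.VO).left ≫ D.π) (b q) ∈ D.U i
      rw [show (snd G D.VO).left ≫ D.π = (G ◁ D.πO).left ≫ (snd G X).left from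
          (congrArg CommaMorphism.left (whiskerLeft_snd G D.πO)).symm]
      exact h3
    let r := IsOpenImmersion.lift (D.k i) _ h2
    have hr : r ≫ D.k i = b ≫ (snd G D.VO).left := IsOpenImmersion.lift_fac _ _ _
    have hz : ∀ m, (b ≫ D.act₀ a).appTop (AffineSpace.coord X.left m) = r.appTop (D.uL m i * D.T i) := fun m => by
      rw [Scheme.Hom.comp_appTop, CommRingCat.comp_apply, act₀, AffineSpace.homOfVector_appTop_coord,
        ← CommRingCat.comp_apply, ← Scheme.Hom.comp_appTop, ← hr]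
      erw [Scheme.Hom.comp_appTop, CommRingCat.comp_apply, k_z]
    rw [hz, hz, map_mul, map_mul]
    have hu : ∀ m, r.appTop (D.uL m i) = l.appTop ((D.U i).topIso.inv (D.u m i)) := fun m => by
      rw [← CommRingCat.comp_apply, ← Scheme.Hom.comp_appTop]
      refine (hD.value i m Q (b ≫ (G ◁ D.πO).left) l _ hl ?_).symm
      rw [Category.assoc, ← k_π, ← Category.assoc, hr]
      exact (Category.assoc _ _ _).trans ((congrArg (b ≫ ·) (congrArg CommaMorphism.left (whiskerLeft_snd G D.πO)).symm).trans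
        (Category.assoc _ _ _).symm)
    rw [hu, hu, D.u_self, map_one, map_one, _root_.one_mul]
  obtain ⟨g, hg⟩ := D.exists_lift (D.act₀ a) hcond
  refine ⟨Over.homMk g ?_, hg⟩
  show g ≫ (D.ι' ≫ D.A ↘ X.left) ≫ X.hom = _
  rw [← Category.assoc, ← Category.assoc, hg, act₀, AffineSpace.homOfVector_over]
  exact Over.w ((G ◁ D.πO) ≫ a.act)

variable (hD : D.IsInvariantData a)

/-- The lifted action, as a morphism. -/
def liftAct : G ⊗ D.VO ⟶ D.VO := (exists_act hD).choose

theorem liftAct_ι' : (D.liftAct hD).left ≫ D.ι' = D.act₀ a := (exists_act hD).choose_spec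

theorem liftAct_π : D.liftAct hD ≫ D.πO = (G ◁ D.πO) ≫ a.act := by
  ext1
  show (D.liftAct hD).left ≫ D.ι' ≫ D.A ↘ X.left = _
  rw [← Category.assoc, liftAct_ι', act₀, AffineSpace.homOfVector_over]

theorem liftAct_z (i : D.I) : (D.liftAct hD).left.appTop (D.z i) = (snd G D.VO).left.appTop (D.z i) := by
  show ((D.liftAct hD).left ≫ D.ι').appTop (AffineSpace.coord X.left i) = _
  rw [liftAct_ι', act₀, AffineSpace.homOfVector_appTop_coord]

theorem comp_liftAct_z {Z : Over S} (f : Z ⟶ G ⊗ D.VO) (i : D.I) :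
    (f ≫ D.liftAct hD).left.appTop (D.z i) = (f ≫ snd G D.VO).left.appTop (D.z i) :=
  congrArg f.left.appTop (liftAct_z hD i)

theorem hom_ext_VO {Z : Over S} {f g : Z ⟶ D.VO} (h1 : f ≫ D.πO = g ≫ D.πO)
    (h2 : ∀ i, f.left.appTop (D.z i) = g.left.appTop (D.z i)) : f = g := by
  refine Over.OverMorphism.ext ((cancel_mono D.ι').1 (AffineSpace.hom_ext ?_ fun i => ?_))
  · rw [Category.assoc, Category.assoc]
    exact congrArg CommaMorphism.left h1
  · rw [Scheme.Hom.comp_appTop, Scheme.Hom.comp_appTop, CommRingCat.comp_apply, CommRingCat.comp_apply]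
    exact h2 i

/-- The lifted action. -/
def liftAction : AlgGrp.Action G D.VO where
  act := D.liftAct hD
  one_act := by
    refine hom_ext_VO ?_ fun i => ?_
    · rw [Category.assoc, liftAct_π, ← Category.assoc, ← whisker_exchange, Category.assoc, a.one_act,
        leftUnitor_naturality]
    · rw [comp_liftAct_z, whiskerRight_snd, leftUnitor_hom]
  mul_act := by
    refine hom_ext_VO ?_ fun i => ?_
    · simp only [Category.assoc, liftAct_π]
      rw [← whisker_exchange_assoc, ← whiskerLeft_comp_assoc, liftAct_π, whiskerLeft_comp_assoc,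
        ← associator_naturality_right_assoc, a.mul_act]
    · rw [comp_liftAct_z, whiskerRight_snd, ← Category.assoc, comp_liftAct_z, Category.assoc, whiskerLeft_snd,
        ← Category.assoc, comp_liftAct_z, Category.assoc, associator_hom_snd_snd]

/-- The admissible coordinates. -/
def chart (U : X.left.Opens) : Set Γ(D.V, D.π ⁻¹ᵁ U) :=
  {y | ∃ i, U ≤ D.U i ∧ y = D.V.presheaf.map (homOfLE (le_top : D.π ⁻¹ᵁ U ≤ ⊤)).op (D.z i)}

variable (D) in
/-- The linear atlas. -/
def atlas : GLinSh.LinAtlas D.πO where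
  affine := inferInstanceAs (IsAffineHom D.π)
  chart := D.chart
  cover x := by
    obtain ⟨i, hi⟩ := D.cover x
    exact ⟨D.U i, hi, _, i, le_rfl, rfl⟩
  coord := by
    rintro U y ⟨i, hU, rfl⟩ W hW hWU
    have := D.bijective_eval i W hW (hWU.trans hU)
    exact (congrArg (fun t => Function.Bijective (Polynomial.eval₂RingHom (D.π.app W).hom t))
      (map_res_apply D.V _ _ _)).mpr this
  linear := by
    rintro U U' y y' ⟨i, hU, rfl⟩ ⟨j, hU', rfl⟩
    refine ⟨X.left.presheaf.map (homOfLE (inf_le_left.trans hU : U ⊓ U' ≤ D.U i)).op (D.u j i), ?_, ?_⟩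
    · have hle : U ⊓ U' ≤ X.left.basicOpen (D.u j i) := by
        rw [← D.inter]; exact inf_le_inf hU hU'
      rw [show (homOfLE (inf_le_left.trans hU : U ⊓ U' ≤ D.U i)).op =
        (homOfLE (X.left.basicOpen_le (D.u j i))).op ≫ (homOfLE hle).op from rfl, Functor.map_comp,
        CommRingCat.comp_apply]
      exact (RingedSpace.isUnit_res_basicOpen _ (D.u j i)).map _
    · refine (map_res_apply D.V _ _ _).trans ((D.z_rel_of_le i j _ (inf_le_left.trans hU)).trans ?_)
      exact congrArg (_ * ·) (map_res_apply D.V _ _ _).symm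

theorem liftAction_linear : GLinSh.IsLinearLift a D.πO (D.liftAction hD) (D.atlas).chart (liftAct_π hD) := by
  rintro U U' y y' ⟨i, hU, rfl⟩ ⟨j, hU', rfl⟩
  refine ⟨(snd G X).left.appLE U _ inf_le_right (X.left.presheaf.map (homOfLE hU).op (D.u j i)), ?_⟩
  set LO := GLinSh.liftOpen a D.πO U U'
  show (D.liftAct hD).left.appLE (D.π ⁻¹ᵁ U') LO _ _ = _ * (snd G D.VO).left.appLE (D.π ⁻¹ᵁ U) LO _ _
  refine (appLE_res (D.liftAct hD).left _ _).trans ?_
  rw [liftAct_z]
  refine (appLE_res (snd G D.VO).left (GLinSh.liftOpen_le_snd a D.πO : LO ≤ _) (D.z j)).symm.trans ?_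
  refine (congrArg _ (z_rel_of_le D i j U hU)).trans ((map_mul _ _ _).trans (congrArg (· * _) ?_))
  refine (appLE_app (snd G D.VO).left D.π _ _).trans ?_
  rw [← CommRingCat.comp_apply ((snd G X).left.appLE _ _ _), Scheme.Hom.appLE_comp_appLE]
  have h : (snd G D.VO).left ≫ D.π = (G ◁ D.πO).left ≫ (snd G X).left :=
    (congrArg CommaMorphism.left (whiskerLeft_snd G D.πO)).symm
  exact appLE_congr_hom h _ _ _

/-- The linearised line bundle. -/
def linBun : GLinSh.LinBun G a where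
  V := D.VO
  π := D.πO
  atlas := D.atlas
  lift := D.liftAction hD
  lift_π := liftAct_π hD
  lift_linear := liftAction_linear hD

theorem isInvSection (j : D.I) : (D.linBun hD).IsInvSection 1 (D.z j) := by
  refine ⟨?_, liftAct_z hD j⟩
  rintro U y ⟨i, hU, rfl⟩
  exact ⟨X.left.presheaf.map (homOfLE hU).op (D.u j i), (D.z_rel_of_le i j U hU).trans (by rw [pow_one]; rfl)⟩

theorem nonvanishing_eq (j : D.I) : GLinSh.nonvanishing (D.linBun hD).π (D.z j) = (D.U j : Set X.left) :=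
  D.nonvanishing_z j

end Linearised

end QuotData

end Groth.Agent.CohDer1.GITBundle
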