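import Groth.Agent.CohDer1.GITBundle.Aff

/-!
# The line spanned by a family of functions: a line bundle inside an affine space

Affine opens `U i` with functions `u j i` on `U i` behaving like the quotients `s j / s i` of sections
of an invertible sheaf cut out a line bundle inside the affine space with coordinates indexed by the family.
-/

set_option autoImplicit false
set_option backward.isDefEq.respectTransparency.types false
set_option linter.style.haveILetI false

universe u

open CategoryTheory CategoryTheory.Limits AlgebraicGeometry TopologicalSpace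

noncomputable section

namespace Groth.Agent.CohDer1.GITBundle

/-- Quotients `u j i = s j / s i` on the affine open `U i = X_{s i}`. -/
structure QuotData (X : Scheme.{u}) where
  /-- the index type -/
  I : Type u
  [fin : Finite I]
  /-- the opens -/
  U : I → X.Opens
  affine : ∀ i, IsAffineOpen (U i)
  cover : ∀ x : X, ∃ i, x ∈ U i
  /-- the quotients -/
  u : ∀ _ i : I, Γ(X, U i)
  u_self : ∀ i, u i i = 1
  inter : ∀ j i, U i ⊓ U j = X.basicOpen (u j i)
  cocycle : ∀ k j i, X.presheaf.map (homOfLE (inf_le_right : U i ⊓ U j ≤ U j)).op (u k j) *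
      X.presheaf.map (homOfLE (inf_le_left : U i ⊓ U j ≤ U i)).op (u j i) =
      X.presheaf.map (homOfLE (inf_le_left : U i ⊓ U j ≤ U i)).op (u k i)

namespace QuotData

attribute [instance] QuotData.fin

variable {X : Scheme.{u}} (D : QuotData X)

/-- The ambient affine space. -/
abbrev A : Scheme.{u} := 𝔸(D.I; X)

/-- The part over `U i` of the affine space. -/
abbrev O (i : D.I) : D.A.Opens := (D.A ↘ X) ⁻¹ᵁ D.U i

/-- The affine line over `U i`. -/
abbrev L (i : D.I) : Scheme.{u} := 𝔸(PUnit.{u + 1}; (D.U i : Scheme.{u}))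

/-- The coordinate of the affine line. -/
abbrev T (i : D.I) : Γ(D.L i, ⊤) := AffineSpace.coord _ PUnit.unit

/-- The quotient `u j i` on the affine line over `U i`. -/
abbrev uL (j i : D.I) : Γ(D.L i, ⊤) := (D.L i ↘ _).appTop ((D.U i).topIso.inv (D.u j i))

/-- The line over `U i`, inside the affine space over `U i`. -/
def graph (i : D.I) : D.L i ⟶ 𝔸(D.I; (D.U i : Scheme.{u})) :=
  AffineSpace.homOfVector (D.L i ↘ _) fun j => D.uL j i * D.T i

/-- The projection to the `i`-th coordinate. -/
def proj (i : D.I) : 𝔸(D.I; (D.U i : Scheme.{u})) ⟶ D.L i :=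
  AffineSpace.homOfVector (𝔸(D.I; (D.U i : Scheme.{u})) ↘ _) fun _ => AffineSpace.coord _ i

theorem graph_proj (i : D.I) : D.graph i ≫ D.proj i = 𝟙 _ := by
  refine AffineSpace.hom_ext ?_ ?_
  · simp [graph, proj]
  · rintro ⟨⟩
    rw [Scheme.Hom.comp_appTop, CommRingCat.comp_apply, proj, AffineSpace.homOfVector_appTop_coord, graph,
      AffineSpace.homOfVector_appTop_coord, uL, D.u_self, map_one, map_one, one_mul]
    rfl

/-- The line over `U i`, inside the affine space. -/
def piece (i : D.I) : D.L i ⟶ D.A := D.graph i ≫ AffineSpace.map D.I (D.U i).ι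

theorem piece_over (i : D.I) : D.piece i ≫ D.A ↘ X = (D.L i ↘ _) ≫ (D.U i).ι := by
  simp [piece, graph]

theorem piece_coord (i j : D.I) : (D.piece i).appTop (AffineSpace.coord X j) = D.uL j i * D.T i := by
  rw [piece, Scheme.Hom.comp_appTop, CommRingCat.comp_apply, AffineSpace.map_appTop_coord, graph,
    AffineSpace.homOfVector_appTop_coord]

instance (i : D.I) : IsAffine (D.U i : Scheme.{u}) := D.affine i

instance (i : D.I) : IsAffineHom (D.U i).ι := by
  refine isAffineHom_of_forall_exists_isAffineOpen _ fun x => ?_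
  obtain ⟨j, hj⟩ := D.cover x
  refine ⟨D.U j, hj, D.affine j, ?_⟩
  rw [← (D.U i).ι.isAffineOpen_iff_of_isOpenImmersion, (D.U i).ι.image_preimage_eq_opensRange_inf,
    Scheme.Opens.opensRange_ι, inf_comm, D.inter i j]
  exact (D.affine j).basicOpen _

instance (i : D.I) : IsAffineHom (AffineSpace.map D.I (D.U i).ι) :=
  MorphismProperty.of_isPullback (AffineSpace.isPullback_map (D.U i).ι).flip inferInstance

instance (i : D.I) : IsAffineHom (D.piece i) := by
  haveI : IsAffineHom (D.graph i) := inferInstance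
  delta piece; infer_instance

theorem top_le_piece_preimage (i : D.I) : ⊤ ≤ D.piece i ⁻¹ᵁ D.O i := fun x _ => by
  show ((D.A ↘ X) (D.piece i x)) ∈ D.U i
  rw [← Scheme.Hom.comp_apply, piece_over, Scheme.Hom.comp_apply]
  exact ((D.L i ↘ (D.U i : Scheme.{u})) x).2

theorem isAffineOpen_O (i : D.I) : IsAffineOpen (D.O i) := (D.affine i).preimage _

theorem appTop_topIso_inv {Q : Scheme.{u}} (W W' : X.Opens) (n : Q ⟶ (W : Scheme.{u})) (g : Q ⟶ X)
    (hn : n ≫ W.ι = g) (hW : W' ≤ W) (hg : ⊤ ≤ g ⁻¹ᵁ W') (r : Γ(X, W)) :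
    n.appTop (W.topIso.inv r) = g.appLE W' ⊤ hg (X.presheaf.map (homOfLE hW).op r) := by
  subst hn
  rw [← CommRingCat.comp_apply, ← CommRingCat.comp_apply, Scheme.Hom.map_appLE,
    ← Scheme.Hom.appLE_comp_appLE n W.ι W ⊤ ⊤ (by simp) le_top]
  congr 2
  rw [Scheme.Opens.ι_appLE]
  congr 1
  simp [Scheme.Hom.appLE, Scheme.Hom.appTop]

variable {D}

/-- The comparison of the pieces. -/
theorem piece_eq_comp {i j : D.I} {Q : Scheme.{u}} (a : Q ⟶ D.L j) (l : Q ⟶ (D.U i : Scheme.{u}))
    (hl : l ≫ (D.U i).ι = a ≫ D.piece j ≫ D.A ↘ X) :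
    a ≫ D.piece j = AffineSpace.homOfVector l (fun _ => a.appTop (D.uL i j * D.T j)) ≫ D.piece i := by
  let g : Q ⟶ X := a ≫ D.piece j ≫ D.A ↘ X
  let m' : Q ⟶ (D.U j : Scheme.{u}) := a ≫ (D.L j ↘ _)
  have hm : m' ≫ (D.U j).ι = g := by simp only [m', g, Category.assoc, D.piece_over j]
  have hgle : ⊤ ≤ g ⁻¹ᵁ (D.U j ⊓ D.U i) := fun x _ => by
    refine ⟨?_, ?_⟩
    · show g x ∈ D.U j
      rw [← hm, Scheme.Hom.comp_apply]
      exact (m' x).2
    · show g x ∈ D.U i
      rw [show g = l ≫ (D.U i).ι from hl.symm, Scheme.Hom.comp_apply]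
      exact (l x).2
  refine AffineSpace.hom_ext ?_ fun m => ?_
  · rw [Category.assoc, Category.assoc, D.piece_over i, AffineSpace.homOfVector_over_assoc, hl]
  · have hlu : ∀ b : D.I, (AffineSpace.homOfVector l (fun _ => a.appTop (D.uL i j * D.T j)) : Q ⟶ D.L i).appTop
        (D.uL b i) = l.appTop ((D.U i).topIso.inv (D.u b i)) := fun b => by
      rw [← CommRingCat.comp_apply, ← Scheme.Hom.comp_appTop, AffineSpace.homOfVector_over]
    have hmu : ∀ b : D.I, a.appTop (D.uL b j) = m'.appTop ((D.U j).topIso.inv (D.u b j)) := fun b => by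
      rw [← CommRingCat.comp_apply, ← Scheme.Hom.comp_appTop]
    have e : l.appTop ((D.U i).topIso.inv (D.u m i)) * a.appTop (D.uL i j) = a.appTop (D.uL m j) := by
      rw [hmu, hmu, appTop_topIso_inv _ _ l g hl inf_le_right hgle,
        appTop_topIso_inv _ _ m' g hm inf_le_left hgle, appTop_topIso_inv _ _ m' g hm inf_le_left hgle,
        ← map_mul, D.cocycle m i j]
    rw [Scheme.Hom.comp_appTop, Scheme.Hom.comp_appTop, CommRingCat.comp_apply, CommRingCat.comp_apply,
      piece_coord, piece_coord, map_mul, map_mul, AffineSpace.homOfVector_appTop_coord, hlu, map_mul,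
      ← mul_assoc, e]

variable (D)

theorem piece_app_eq_zero (i j : D.I) (s : Γ(D.A, D.O i)) (hs : (D.piece i).app (D.O i) s = 0) :
    (D.piece j).app (D.O i) s = 0 := by
  let Q : (D.L j).Opens := D.piece j ⁻¹ᵁ D.O i
  have hg : Set.range (Q.ι ≫ D.piece j ≫ D.A ↘ X) ⊆ Set.range (D.U i).ι := by
    rintro _ ⟨q, rfl⟩
    rw [Scheme.Opens.range_ι]
    exact q.2
  have hq := piece_eq_comp Q.ι _ (IsOpenImmersion.lift_fac (D.U i).ι _ hg)
  exact app_eq_zero_of_comp_eq (D.piece i) (D.piece j) Q rfl _ hq hs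

instance (i : D.I) : IsOpenImmersion (AffineSpace.map D.I (D.U i).ι) :=
  MorphismProperty.of_isPullback (AffineSpace.isPullback_map (D.U i).ι).flip inferInstance

theorem opensRange_map (i : D.I) : (AffineSpace.map D.I (D.U i).ι).opensRange = D.O i := by
  refine Opens.ext ?_
  have h := AffineSpace.isPullback_map (n := D.I) (D.U i).ι
  rw [Scheme.Hom.coe_opensRange, ← h.isoPullback_hom_fst, Scheme.Hom.comp_base, TopCat.coe_comp, Set.range_comp,
    Set.range_eq_univ.2 h.isoPullback.hom.surjective, Set.image_univ, Scheme.Pullback.range_fst,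
    Scheme.Opens.range_ι]
  rfl

/-- The line spanned by the functions, as a closed subscheme of the affine space covered by the lines over
the `U i`. -/
theorem exists_tot : ∃ (V : Scheme.{u}) (e : V ⟶ D.A) (k : ∀ i, D.L i ⟶ V), IsClosedImmersion e ∧
    (∀ i, k i ≫ e = D.piece i) ∧
      ∀ i, IsOpenImmersion (k i) ∧ Set.range (k i) = (e ⁻¹ᵁ D.O i : Set V) := by
  let k : ∀ i, D.L i ⟶ (⨅ i, (D.piece i).ker).subscheme := fun i =>
    IsClosedImmersion.lift (⨅ i, (D.piece i).ker).subschemeι (D.piece i)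
      ((Scheme.IdealSheafData.ker_subschemeι _).le.trans (iInf_le (fun i => (D.piece i).ker) i))
  have hk : ∀ i, k i ≫ (⨅ i, (D.piece i).ker).subschemeι = D.piece i := fun i =>
    IsClosedImmersion.lift_fac _ _ _
  exact ⟨_, _, k, inferInstance, hk, fun i =>
    lift_iInf_spec D.piece i (D.O i) (D.isAffineOpen_O i) (D.top_le_piece_preimage i)
      (D.piece_app_eq_zero i) (appLE_surjective_comp _ _ (D.opensRange_map i)
        (appTop_surjective_of_retraction _ _ (D.graph_proj i)) _) (k i) (hk i)⟩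

/-- The total space. -/
def V : Scheme.{u} := D.exists_tot.choose

/-- The inclusion of the total space in the affine space. -/
def ι' : D.V ⟶ D.A := D.exists_tot.choose_spec.choose

/-- The line over `U i` as part of the total space. -/
def k (i : D.I) : D.L i ⟶ D.V := D.exists_tot.choose_spec.choose_spec.choose i

instance : IsClosedImmersion D.ι' := D.exists_tot.choose_spec.choose_spec.choose_spec.1

/-- The projection of the total space. -/
def π : D.V ⟶ X := D.ι' ≫ D.A ↘ X

instance : IsAffineHom D.π := by delta π; infer_instance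

/-- The global fibre coordinates. -/
def z (i : D.I) : Γ(D.V, ⊤) := D.ι'.appTop (AffineSpace.coord X i)

@[reassoc]
theorem k_ι' (i : D.I) : D.k i ≫ D.ι' = D.piece i := D.exists_tot.choose_spec.choose_spec.choose_spec.2.1 i

theorem k_π (i : D.I) : D.k i ≫ D.π = (D.L i ↘ _) ≫ (D.U i).ι := by
  rw [π, k_ι'_assoc, piece_over]

theorem k_z (i j : D.I) : (D.k i).appTop (D.z j) = D.uL j i * D.T i := by
  rw [z, ← CommRingCat.comp_apply, ← Scheme.Hom.comp_appTop, k_ι', piece_coord]

instance (i : D.I) : IsOpenImmersion (D.k i) :=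
  (D.exists_tot.choose_spec.choose_spec.choose_spec.2.2 i).1

theorem opensRange_k (i : D.I) : (D.k i).opensRange = D.π ⁻¹ᵁ D.U i :=
  Opens.ext (D.exists_tot.choose_spec.choose_spec.choose_spec.2.2 i).2

theorem range_k (i : D.I) : Set.range (D.k i) = (D.π ⁻¹ᵁ D.U i : Set D.V) :=
  (D.exists_tot.choose_spec.choose_spec.choose_spec.2.2 i).2

theorem top_le_k_preimage (i : D.I) : ⊤ ≤ D.k i ⁻¹ᵁ (D.π ⁻¹ᵁ D.U i) := fun x _ =>
  (D.range_k i).le ⟨x, rfl⟩

end QuotData

end Groth.Agent.CohDer1.GITBundle
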